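import Groth.Agent.FBase.Components
import Groth.Agent.FBase.ConnComp
import Mathlib.FieldTheory.IntermediateField.Adjoin.Basic

/-!
# Connectedness after an algebraic extension of the base field is detected on finite subextensions
-/

set_option autoImplicit false

universe u

open CategoryTheory Limits AlgebraicGeometry TensorProduct
open Groth.Agent.FBase.BC Groth.Agent.FBase.BC2 Groth.Agent.FBase.Components

namespace Groth.Agent.FBaseSep

variable {k : Type u} [Field k]

/-- An element of `κ ⊗ L` comes from `κ ⊗ K` for a finitely generated `K`. -/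
theorem exists_finset_mem_range {κ L : Type u} [CommRing κ] [Algebra k κ] [Field L] [Algebra k L]
    (z : κ ⊗[k] L) :
    ∃ s : Finset L, ∀ K : IntermediateField k L, ↑s ⊆ (K : Set L) →
      z ∈ (Algebra.TensorProduct.map (AlgHom.id k κ) K.val).range := by
  classical
  induction z using TensorProduct.induction_on with
  | zero => exact ⟨∅, fun K _ => zero_mem _⟩
  | tmul a b =>
    refine ⟨{b}, fun K hK => ⟨a ⊗ₜ ⟨b, hK (Finset.mem_singleton_self b)⟩, ?_⟩⟩
    exact Algebra.TensorProduct.map_tmul _ _ _ _
  | add x y hx hy =>
    obtain ⟨s, hs⟩ := hx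
    obtain ⟨t, ht⟩ := hy
    refine ⟨s ∪ t, fun K hK => add_mem (hs K fun b hb => hK (Finset.mem_union_left _ hb))
      (ht K fun b hb => hK (Finset.mem_union_right _ hb))⟩

/-- If all finite subextensions give connected schemes, so does an algebraic extension. -/
theorem connectedSpace_pullback_of_finite {X : Scheme.{u}} (f : X ⟶ Spec (CommRingCat.of k))
    (L : Type u) [Field L] [Algebra k L] [Algebra.IsAlgebraic k L]
    (h : ∀ K : IntermediateField k L, FiniteDimensional k K →
      ConnectedSpace ↥(pullback f (specMap k K))) :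
    ConnectedSpace ↥(pullback f (specMap k L)) := by
  have hne : Nonempty ↥(pullback f (specMap k L)) := by
    have := h ⊥ inferInstance
    obtain ⟨z⟩ := (inferInstance : Nonempty ↥(pullback f (specMap k (⊥ : IntermediateField k L))))
    obtain ⟨w, -⟩ := (surjective_pullback_fst (K := L) f).surj (pullback.fst f _ z)
    exact ⟨w⟩
  have main : ∀ U : Set ↥(pullback f (specMap k L)), IsClopen U → U.Nonempty → Uᶜ = ∅ := by
    intro U hU hUne
    by_contra hc
    have hcne : Uᶜ.Nonempty := Set.nonempty_iff_ne_empty.2 hc
    have himg : ∀ K : IntermediateField k L, FiniteDimensional k K →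
        bcMap f (K := K) (L := L) '' Uᶜ = Set.univ := by
      intro K hK
      have := h K hK
      have := isIntegralHom_bcMap f (K := K) (L := L)
      have := universallyOpen_bcMap f (K := K) (L := L)
      have hcl : IsClopen (bcMap f (K := K) (L := L) '' Uᶜ) :=
        ⟨Scheme.Hom.isClosedMap _ _ hU.compl.1, Scheme.Hom.isOpenMap _ _ hU.compl.2⟩
      exact hcl.eq_univ (hcne.image _)
    obtain ⟨y, hy⟩ := hUne
    obtain ⟨κ, _, _, ι, _, hι, hrange⟩ := exists_point f (pullback.fst f (specMap k L) y)
    obtain ⟨P, hP⟩ := (range_fibreMap f ι hι L).ge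
      (show y ∈ pullback.fst f (specMap k L) ⁻¹' Set.range ι by rw [hrange]; rfl)
    let W : Set (PrimeSpectrum (κ ⊗[k] L)) := fibreMap f ι hι L ⁻¹' Uᶜ
    have hWc : IsCompact W :=
      (hU.compl.1.preimage (fibreMap f ι hι L).continuous).isCompact
    have hcov : W ⊆ ⋃ z : P.asIdeal, (PrimeSpectrum.basicOpen (z : κ ⊗[k] L) : Set _) := by
      intro Q hQ
      by_contra hn
      simp only [Set.mem_iUnion, SetLike.mem_coe, PrimeSpectrum.mem_basicOpen, not_exists,
        not_not] at hn
      have hle : P.asIdeal ≤ Q.asIdeal := fun z hz => hn ⟨z, hz⟩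
      have hsp : fibreMap f ι hι L P ⤳ fibreMap f ι hι L Q :=
        ((PrimeSpectrum.le_iff_specializes P Q).1 hle).map (fibreMap f ι hι L).continuous
      have := eq_of_specializes_of_algebraic f ι hι (K := L) hsp
        ((range_fibreMap f ι hι L).le ⟨P, rfl⟩) ((range_fibreMap f ι hι L).le ⟨Q, rfl⟩)
      exact hQ (by rw [← this, hP]; exact hy)
    obtain ⟨t, ht⟩ := hWc.elim_finite_subcover _ (fun z => PrimeSpectrum.isOpen_basicOpen) hcov
    choose s hs using fun z : P.asIdeal => exists_finset_mem_range (k := k) (z : κ ⊗[k] L)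
    classical
    let S : Finset L := t.biUnion s
    let K : IntermediateField k L := IntermediateField.adjoin k (S : Set L)
    have hK : FiniteDimensional k K :=
      IntermediateField.finiteDimensional_adjoin fun x _ => Algebra.IsIntegral.isIntegral x
    obtain ⟨y', hy', hyy⟩ : bcMap f (K := K) (L := L) y ∈ bcMap f (K := K) (L := L) '' Uᶜ := by
      rw [himg K hK]; trivial
    have hy'x : y' ∈ pullback.fst f (specMap k L) ⁻¹' Set.range ι := by
      rw [hrange, Set.mem_preimage, Set.mem_singleton_iff, ← bcMap_fst f (K := K) (L := L),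
        Scheme.Hom.comp_apply, Scheme.Hom.comp_apply, hyy]
    obtain ⟨Q, rfl⟩ := (range_fibreMap f ι hι L).ge hy'x
    obtain ⟨z, hz, hQz⟩ := Set.mem_iUnion₂.1 (ht (show Q ∈ W from hy'))
    rw [← hP, ← Scheme.Hom.comp_apply, ← Scheme.Hom.comp_apply, fibreMap_bcMap f ι hι,
      Scheme.Hom.comp_apply, Scheme.Hom.comp_apply] at hyy
    have hPQ := congrArg PrimeSpectrum.asIdeal ((fibreMap f ι hι K).isEmbedding.injective hyy)
    let m := Algebra.TensorProduct.map (AlgHom.id k κ) (IsScalarTower.toAlgHom k K L)
    change Q.asIdeal.comap m = P.asIdeal.comap m at hPQ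
    obtain ⟨w, hw⟩ := hs z K ((Finset.coe_subset.2 (Finset.subset_biUnion_of_mem s hz)).trans
      (IntermediateField.subset_adjoin k _))
    have hmem : w ∈ P.asIdeal.comap m := by
      rw [Ideal.mem_comap]
      have : m w = (z : κ ⊗[k] L) := hw
      rw [this]
      exact z.2
    rw [← hPQ, Ideal.mem_comap, show m w = (z : κ ⊗[k] L) from hw] at hmem
    exact hQz hmem
  refine connectedSpace_iff_clopen.mpr ⟨hne, fun U hU => ?_⟩
  rcases U.eq_empty_or_nonempty with h0 | h1
  · exact Or.inl h0
  · exact Or.inr (Set.compl_empty_iff.1 (main U hU h1))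

/-- Geometric connectedness from connectedness over a separable closure. -/
theorem geometricallyConnected_of_sepClosure {X : Scheme.{u}} (f : X ⟶ Spec (CommRingCat.of k))
    [ConnectedSpace ↥(pullback f (specMap k (SeparableClosure k)))] : GeometricallyConnected f :=
  (geometricallyConnected_iff (K := SeparableClosure k) f).mpr
    (geometricallyConnected_of_isSepClosed _)

/-- Geometric connectedness is detected on finite separable extensions. -/
theorem geometricallyConnected_iff_finite_separable {X : Scheme.{u}}
    (f : X ⟶ Spec (CommRingCat.of k)) :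
    GeometricallyConnected f ↔
      ∀ (K : Type u) [Field K] [Algebra k K] [Module.Finite k K] [Algebra.IsSeparable k K],
        ConnectedSpace ↥(pullback f (specMap k K)) := by
  refine ⟨fun h K _ _ _ _ => pullback_of_geometrically h.1 K (specMap k K), fun h => ?_⟩
  have := connectedSpace_pullback_of_finite f (SeparableClosure k) fun K hK => by
    have : Module.Finite k K := hK
    exact h K
  exact geometricallyConnected_of_sepClosure f

end Groth.Agent.FBaseSep
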